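-- helper34: shared data for S4067 (automorphism orbits of a nonabelian group).
import Mathlib

set_option autoImplicit false

namespace Cfsg.Agent.Helper34.AutOrb

/-- Data for a fusing automorphism of a group `G` whose commutator subgroup has prime order `p`:
a normal subgroup `M` of index `p` containing the centre and an element `m` of `M` centralizing `M`,
outside the commutator subgroup, with `m ^ p` in it, such that `(y * m) ^ p = y ^ p` for all `y`
outside `M`. -/
structure FuseData (G : Type*) [Group G] (p : ℕ) where
  M : Subgroup G
  m : G
  normal : M.Normal
  index_eq : M.index = p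
  center_le : Subgroup.center G ≤ M
  m_mem : m ∈ M
  m_comm : ∀ u ∈ M, m * u = u * m
  pow_eq : ∀ y : G, y ∉ M → (y * m) ^ p = y ^ p
  m_not_mem : m ∉ commutator G
  m_pow_mem : m ^ p ∈ commutator G

end Cfsg.Agent.Helper34.AutOrb
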