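-- helper34: assembly for S4067 (automorphism orbits of a nonabelian group).
import Mathlib
import Cfsg.Agent.Helper34.AutOrb.Defs
import Cfsg.Agent.Helper38.AutOrbE1
import Cfsg.Agent.Helper11.AutOrbB
import Cfsg.Agent.Helper50.AutOrbD
import Cfsg.Agent.Helper81.AutOrbA
import Cfsg.Agent.Helper31.AutOrbC2
import Cfsg.Agent.Helper22.AutOrbCodd

set_option autoImplicit false
set_option linter.style.haveILetI false

namespace Cfsg.Agent.Helper34.AutOrb

open Subgroup

/-- The number of automorphism orbits is at most the number of conjugacy classes. -/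
theorem card_orbits_le_card_conjClasses {G : Type*} [Group G] [Finite G] :
    Nat.card (MulAction.orbitRel.Quotient (MulAut G) G) ≤ Nat.card (ConjClasses G) := by
  have hmap : ∀ a b : G, (IsConj.setoid G).r a b →
      (MulAction.orbitRel (MulAut G) G).r (id a) (id b) := by
    intro a b hab
    obtain ⟨c, hc⟩ := isConj_iff.mp hab
    change a ∈ MulAction.orbit (MulAut G) b
    refine ⟨MulAut.conj c⁻¹, ?_⟩
    change MulAut.conj c⁻¹ b = a
    rw [← hc]; simp [mul_assoc]
  let f : ConjClasses G → MulAction.orbitRel.Quotient (MulAut G) G :=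
    Quotient.map' id hmap
  refine Nat.card_le_card_of_surjective f ?_
  intro q
  induction q using Quotient.inductionOn' with
  | h a => exact ⟨ConjClasses.mk a, rfl⟩

/-- `m ^ i * k` determines `i < p` and `k ∈ G'`. -/
theorem pow_mul_inj {G : Type*} [Group G] {p : ℕ} (hp : p.Prime) (K : Subgroup G) (m : G)
    (hm : m ∉ K) (hmp : m ^ p ∈ K) {i j : ℕ} (_hi : i < p) (hj : j < p) (hij : i ≤ j) {k k' : G}
    (hk : k ∈ K) (hk' : k' ∈ K) (h : m ^ i * k = m ^ j * k') : i = j ∧ k = k' := by
  obtain ⟨d, rfl⟩ := Nat.exists_eq_add_of_le hij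
  have h1 : k = m ^ d * k' := by
    rw [pow_add, mul_assoc] at h
    exact mul_left_cancel h
  have hd : m ^ d ∈ K := by
    have : m ^ d = k * k'⁻¹ := by rw [h1]; group
    rw [this]; exact K.mul_mem hk (K.inv_mem hk')
  rcases Nat.eq_zero_or_pos d with h0 | h0
  · subst h0
    refine ⟨rfl, ?_⟩
    simpa using h1
  · exfalso
    have hcop : Nat.Coprime d p := by
      rw [Nat.coprime_comm, Nat.Prime.coprime_iff_not_dvd hp]
      intro hdvd
      have := Nat.le_of_dvd h0 hdvd
      omega
    obtain ⟨u, -, hu⟩ := Nat.exists_mul_mod_eq_one_of_coprime hcop hp.one_lt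
    have hdiv := Nat.div_add_mod (d * u) p
    rw [hu] at hdiv
    have h2 : (m ^ d) ^ u = (m ^ p) ^ (d * u / p) * m := by
      rw [← pow_mul, ← pow_mul, ← pow_succ, hdiv]
    have h3 : m = ((m ^ p) ^ (d * u / p))⁻¹ * (m ^ d) ^ u := by rw [h2]; group
    apply hm
    rw [h3]
    exact K.mul_mem (K.inv_mem (K.pow_mem hmp _)) (K.pow_mem hd _)

/-- The weighted lower bound for one automorphism orbit. -/
theorem weight_le_orbit_sum {G : Type*} [Group G] [Fintype G] [DecidableEq G] {p : ℕ}
    [hp : Fact p.Prime]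
    (hc : Nat.card (commutator G) = p)
    (hcz : commutator G ≤ Subgroup.center G)
    (hconj : ∀ g : G, g ∉ Subgroup.center G → ∀ k ∈ commutator G, ∃ x : G, x * g * x⁻¹ = k * g)
    (D : FuseData G p)
    (haut : ∀ y : G, y ∉ D.M → ∃ θ : MulAut G, θ y = y * D.m ∧ ∀ u ∈ D.M, θ u = u)
    [DecidablePred (· ∈ Subgroup.center G)] [DecidablePred (· ∈ D.M)]
    [DecidableRel (MulAction.orbitRel (MulAut G) G).r]
    (a : G) :
    p ^ 2 ≤ ∑ b ∈ Finset.univ.filter (fun b => (MulAction.orbitRel (MulAut G) G).r a b),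
      (if b ∈ Subgroup.center G then p ^ 2 else if b ∈ D.M then p else 1) := by
  classical
  set w : G → ℕ := fun b => if b ∈ Subgroup.center G then p ^ 2 else if b ∈ D.M then p else 1
    with hw
  have hrel : ∀ b : G, (∃ φ : MulAut G, φ a = b) →
      b ∈ Finset.univ.filter (fun b => (MulAction.orbitRel (MulAut G) G).r a b) := by
    rintro b ⟨φ, rfl⟩
    rw [Finset.mem_filter]
    refine ⟨Finset.mem_univ _, ?_⟩
    change a ∈ MulAction.orbit (MulAut G) (φ a)
    exact ⟨φ⁻¹, by simp⟩
  have hKM : commutator G ≤ D.M := hcz.trans D.center_le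
  have : Fintype (commutator G) := Fintype.ofFinite _
  have hcardK : Fintype.card (commutator G) = p := by rw [← Nat.card_eq_fintype_card, hc]
  by_cases haZ : a ∈ Subgroup.center G
  · -- a central: its own weight
    calc p ^ 2 = w a := by simp [hw, haZ]
      _ ≤ _ := Finset.single_le_sum (f := w) (fun _ _ => Nat.zero_le _)
          (hrel a ⟨1, rfl⟩)
  by_cases haM : a ∈ D.M
  · -- a in M, not central: the coset of the commutator subgroup
    let S : Finset G := Finset.univ.image (fun k : commutator G => (k : G) * a)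
    have hinj : Function.Injective (fun k : commutator G => (k : G) * a) := by
      intro k k' h
      exact Subtype.ext (mul_right_cancel h)
    have hS : S ⊆ Finset.univ.filter (fun b => (MulAction.orbitRel (MulAut G) G).r a b) := by
      intro b hb
      obtain ⟨k, -, rfl⟩ := Finset.mem_image.mp hb
      obtain ⟨x, hx⟩ := hconj a haZ k k.2
      exact hrel _ ⟨MulAut.conj x, by rw [MulAut.conj_apply, hx]⟩
    have hwS : ∀ b ∈ S, w b = p := by
      intro b hb
      obtain ⟨k, -, rfl⟩ := Finset.mem_image.mp hb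
      have h1 : (k : G) * a ∉ Subgroup.center G := by
        intro h
        apply haZ
        have := (Subgroup.center G).mul_mem ((Subgroup.center G).inv_mem (hcz k.2)) h
        simpa using this
      have h2 : (k : G) * a ∈ D.M := D.M.mul_mem (hKM k.2) haM
      simp [hw, h1, h2]
    calc p ^ 2 = ∑ b ∈ S, w b := by
          rw [Finset.sum_congr rfl hwS, Finset.sum_const, Finset.card_image_of_injective _ hinj,
            Finset.card_univ, hcardK, smul_eq_mul, sq]
      _ ≤ _ := Finset.sum_le_sum_of_subset hS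
  · -- a outside M
    obtain ⟨θ, hθa, hθM⟩ := haut a haM
    have hθm : θ D.m = D.m := hθM _ D.m_mem
    have hθpow : ∀ i : ℕ, (θ ^ i) a = a * D.m ^ i := by
      intro i
      induction i with
      | zero => simp
      | succ i ih =>
        rw [pow_succ', MulAut.mul_apply, ih, map_mul, map_pow, hθa, hθm, pow_succ', mul_assoc]
    have hmi : ∀ i : ℕ, D.m ^ i ∈ D.M := fun i => D.M.pow_mem D.m_mem i
    have hnotM : ∀ (i : ℕ) (k : commutator G), a * D.m ^ i * (k : G) ∉ D.M := by
      intro i k h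
      apply haM
      have h1 : a * (D.m ^ i * (k : G)) ∈ D.M := by rwa [← mul_assoc]
      have h2 : D.m ^ i * (k : G) ∈ D.M := D.M.mul_mem (hmi i) (hKM k.2)
      have h3 := D.M.mul_mem h1 (D.M.inv_mem h2)
      rwa [mul_inv_cancel_right] at h3
    let S : Finset G :=
      Finset.univ.image (fun ik : Fin p × commutator G => a * D.m ^ (ik.1 : ℕ) * (ik.2 : G))
    have hinj : Function.Injective
        (fun ik : Fin p × commutator G => a * D.m ^ (ik.1 : ℕ) * (ik.2 : G)) := by
      rintro ⟨i, k⟩ ⟨j, k'⟩ h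
      have h' : D.m ^ (i : ℕ) * (k : G) = D.m ^ (j : ℕ) * (k' : G) := by
        have h0 : a * (D.m ^ (i : ℕ) * (k : G)) = a * (D.m ^ (j : ℕ) * (k' : G)) := by
          simpa [mul_assoc] using h
        exact mul_left_cancel h0
      rcases le_total (i : ℕ) (j : ℕ) with hij | hij
      · obtain ⟨h1, h2⟩ := pow_mul_inj hp.out (commutator G) D.m D.m_not_mem D.m_pow_mem
          i.2 j.2 hij k.2 k'.2 h'
        exact Prod.ext (Fin.ext h1) (Subtype.ext h2)
      · obtain ⟨h1, h2⟩ := pow_mul_inj hp.out (commutator G) D.m D.m_not_mem D.m_pow_mem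
          j.2 i.2 hij k'.2 k.2 h'.symm
        exact Prod.ext (Fin.ext h1.symm) (Subtype.ext h2.symm)
    have hS : S ⊆ Finset.univ.filter (fun b => (MulAction.orbitRel (MulAut G) G).r a b) := by
      intro b hb
      obtain ⟨⟨i, k⟩, -, rfl⟩ := Finset.mem_image.mp hb
      have hnz : a * D.m ^ (i : ℕ) ∉ Subgroup.center G := by
        intro h
        have := hnotM i 1
        simp only [OneMemClass.coe_one, mul_one] at this
        exact this (D.center_le h)
      obtain ⟨x, hx⟩ := hconj _ hnz k k.2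
      refine hrel _ ⟨MulAut.conj x * θ ^ (i : ℕ), ?_⟩
      rw [MulAut.mul_apply, hθpow, MulAut.conj_apply, hx]
      exact ((Subgroup.mem_center_iff.mp (hcz k.2)) _).symm
    have hwS : ∀ b ∈ S, w b = 1 := by
      intro b hb
      obtain ⟨⟨i, k⟩, -, rfl⟩ := Finset.mem_image.mp hb
      have h2 := hnotM i k
      have h1 : a * D.m ^ (i : ℕ) * (k : G) ∉ Subgroup.center G := fun h => h2 (D.center_le h)
      simp [hw, h1, h2]
    calc p ^ 2 = ∑ b ∈ S, w b := by
          rw [Finset.sum_congr rfl hwS, Finset.sum_const, Finset.card_image_of_injective _ hinj,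
            Finset.card_univ, Fintype.card_prod, Fintype.card_fin, hcardK, smul_eq_mul, mul_one,
            sq]
      _ ≤ _ := Finset.sum_le_sum_of_subset hS

/-- The total weight. -/
theorem sum_weight {G : Type*} [Group G] [Fintype G] {p : ℕ} (hp : 1 ≤ p) (M : Subgroup G)
    (hZM : Subgroup.center G ≤ M)
    [DecidablePred (· ∈ Subgroup.center G)] [DecidablePred (· ∈ M)] :
    ∑ b : G, (if b ∈ Subgroup.center G then p ^ 2 else if b ∈ M then p else 1)
      = Nat.card G + (p - 1) * Nat.card M + (p ^ 2 - p) * Nat.card (Subgroup.center G) := by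
  have hpp : p ≤ p ^ 2 := by nlinarith
  have hpt : ∀ b : G, (if b ∈ Subgroup.center G then p ^ 2 else if b ∈ M then p else 1)
      = 1 + (p - 1) * (if b ∈ M then 1 else 0)
        + (p ^ 2 - p) * (if b ∈ Subgroup.center G then 1 else 0) := by
    intro b
    by_cases hZ : b ∈ Subgroup.center G
    · have hM : b ∈ M := hZM hZ
      simp only [hZ, hM, if_true, mul_one]
      omega
    · by_cases hM : b ∈ M
      · simp only [hZ, hM, if_true, if_false, mul_one, mul_zero, add_zero]
        omega
      · simp [hZ, hM]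
  rw [Finset.sum_congr rfl (fun b _ => hpt b), Finset.sum_add_distrib, Finset.sum_add_distrib,
    ← Finset.mul_sum, ← Finset.mul_sum, Finset.sum_boole, Finset.sum_boole]
  simp only [Finset.sum_const, Finset.card_univ, smul_eq_mul, mul_one, Nat.cast_id]
  rw [Nat.card_eq_fintype_card, Nat.card_eq_fintype_card, Nat.card_eq_fintype_card,
    Fintype.card_subtype, Fintype.card_subtype]

/-- The bound on the number of automorphism orbits. -/
theorem card_orbits_le {G : Type*} [Group G] [Finite G] (hna : ¬ IsMulCommutative G) :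
    Nat.card (MulAction.orbitRel.Quotient (MulAut G) G)
      ≤ Nat.card G / (Nat.card G).minFac := by
  classical
  have := Fintype.ofFinite G
  obtain ⟨p, hpdef⟩ : ∃ p, p = (Nat.card G).minFac := ⟨_, rfl⟩
  have hn1 : Nat.card G ≠ 1 := by
    intro h1
    apply hna
    have : Subsingleton G := (Nat.card_eq_one_iff_unique.mp h1).1
    exact ⟨⟨fun a b => Subsingleton.elim _ _⟩⟩
  have hp : p.Prime := by rw [hpdef]; exact Nat.minFac_prime hn1
  haveI : Fact p.Prime := ⟨hp⟩
  have hpn : p ∣ Nat.card G := by rw [hpdef]; exact Nat.minFac_dvd _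
  rw [← hpdef]
  by_cases hk : Nat.card (ConjClasses G) ≤ Nat.card G / p
  · exact card_orbits_le_card_conjClasses.trans hk
  have hc' : Nat.card (commutator G) = (Nat.card G).minFac :=
    Cfsg.Agent.Helper81.AutOrb.card_commutator_eq_of_many_classes hna (by rw [← hpdef]; omega)
  have hc : Nat.card (commutator G) = p := by rw [hpdef]; exact hc'
  have hcz : commutator G ≤ Subgroup.center G := Cfsg.Agent.Helper11.AutOrbB.commutator_le_center hc'
  have hconj : ∀ g : G, g ∉ Subgroup.center G → ∀ k ∈ commutator G,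
      ∃ x : G, x * g * x⁻¹ = k * g := fun g hg k hk => Cfsg.Agent.Helper11.AutOrbB.exists_conj_eq_mul hc' g hg k hk
  have hZ : p ^ 2 * Nat.card (Subgroup.center G) ≤ Nat.card G := by
    rw [hpdef]; exact Cfsg.Agent.Helper11.AutOrbB.sq_mul_card_center_le hna
  obtain ⟨D⟩ : Nonempty (FuseData G p) := by
    by_cases h2 : p = 2
    · rw [h2]
      exact Cfsg.Agent.Helper31.AutOrbC2.exists_fuseData_two hna (by rw [hc, h2]) (by rw [← hpdef, h2])
    · rw [hpdef]
      exact Cfsg.Agent.Helper22.AutOrbCodd.exists_fuseData_odd hna hc' (by rw [← hpdef]; exact h2)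
  haveI := D.normal
  have haut : ∀ y : G, y ∉ D.M → ∃ θ : MulAut G, θ y = y * D.m ∧ ∀ u ∈ D.M, θ u = u :=
    fun y hy => Cfsg.Agent.Helper50.AutOrb.exists_mulAut_of_fuse D.M D.index_eq D.m D.m_mem D.m_comm y hy
      (D.pow_eq y hy)
  have key := Cfsg.Agent.Helper38.AutOrb.mul_card_quotient_le_sum (MulAction.orbitRel (MulAut G) G)
    (fun b => if b ∈ Subgroup.center G then p ^ 2 else if b ∈ D.M then p else 1) (p ^ 2)
    (fun a => weight_le_orbit_sum hc hcz hconj D haut a)
  rw [sum_weight hp.one_lt.le D.M D.center_le] at key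
  change p ^ 2 * Nat.card (MulAction.orbitRel.Quotient (MulAut G) G) ≤ _ at key
  have hMn : Nat.card D.M * p = Nat.card G := by
    have h0 := D.M.card_mul_index
    rwa [D.index_eq] at h0
  have hdiv : Nat.card G / p = Nat.card D.M := by
    rw [← hMn]; exact Nat.mul_div_cancel _ hp.pos
  rw [hdiv]
  generalize Nat.card (MulAction.orbitRel.Quotient (MulAut G) G) = Ω at key ⊢
  generalize Nat.card D.M = M₀ at key hMn ⊢
  generalize Nat.card (Subgroup.center G) = z at key hZ
  generalize Nat.card G = n at key hMn hZ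
  obtain ⟨s, rfl⟩ : ∃ s, p = s + 2 := ⟨p - 2, by have := hp.two_le; omega⟩
  subst hMn
  have h1 : (s + 2) * z ≤ M₀ := by
    have : (s + 2) * ((s + 2) * z) ≤ (s + 2) * M₀ := by nlinarith
    exact Nat.le_of_mul_le_mul_left this (by omega)
  have e1 : s + 2 - 1 = s + 1 := by omega
  have e2 : (s + 2) ^ 2 - (s + 2) = (s + 2) * (s + 1) := by
    have : (s + 2) ^ 2 = (s + 2) * (s + 1) + (s + 2) := by ring
    omega
  rw [e1, e2] at key
  by_contra hcon
  have hcon' : M₀ + 1 ≤ Ω := by omega
  have h2 : (s + 1) * ((s + 2) * z) ≤ (s + 1) * M₀ := Nat.mul_le_mul_left _ h1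
  have h3 : (s + 2) ^ 2 * (M₀ + 1) ≤ (s + 2) ^ 2 * Ω := Nat.mul_le_mul_left _ hcon'
  have h4 : (s + 2) ^ 2 * (M₀ + 1) ≤ M₀ * (s + 2) + (s + 1) * M₀ + (s + 1) * M₀ := by
    calc (s + 2) ^ 2 * (M₀ + 1) ≤ (s + 2) ^ 2 * Ω := h3
      _ ≤ M₀ * (s + 2) + (s + 1) * M₀ + (s + 2) * (s + 1) * z := key
      _ = M₀ * (s + 2) + (s + 1) * M₀ + (s + 1) * ((s + 2) * z) := by ring
      _ ≤ _ := Nat.add_le_add_left h2 _
  have h5 : (s + 2) ^ 2 * (M₀ + 1)
      = (M₀ * (s + 2) + (s + 1) * M₀ + (s + 1) * M₀) + (s ^ 2 * M₀ + s * M₀ + s ^ 2 + 4 * s + 4) := by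
    ring
  omega

end Cfsg.Agent.Helper34.AutOrb
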